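import Cfsg.Prelude.Def_Classical

/-!
The quadratic form `∑ xᵢ yᵢ` over the field with two elements: counting singular vectors in
orthogonal complements of totally singular subspaces by sums of signs.
-/

set_option autoImplicit false

namespace Cfsg.Agent.OPlusTwo

open Matrix Finset

variable {F : Type*} [Field F] [Fintype F] [DecidableEq F] {m : ℕ}

/-- the space -/
abbrev Vec (F : Type*) (m : ℕ) : Type _ := Fin m ⊕ Fin m → F

/-- the polar form -/
def bil (m : ℕ) (F : Type*) [Field F] : LinearMap.BilinForm F (Vec F m) :=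
  LinearMap.mk₂ F (fun x y => ∑ i : Fin m, (x (.inl i) * y (.inr i) + x (.inr i) * y (.inl i)))
    (fun x x' y => by simp only [Pi.add_apply, ← sum_add_distrib]; congr 1; ext i; ring)
    (fun c x y => by simp only [Pi.smul_apply, smul_eq_mul, mul_sum]; congr 1; ext i; ring)
    (fun x y y' => by simp only [Pi.add_apply, ← sum_add_distrib]; congr 1; ext i; ring)
    (fun c x y => by simp only [Pi.smul_apply, smul_eq_mul, mul_sum]; congr 1; ext i; ring)

omit [Fintype F] [DecidableEq F]

theorem bil_apply (x y : Vec F m) :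
    bil m F x y = ∑ i : Fin m, (x (.inl i) * y (.inr i) + x (.inr i) * y (.inl i)) := rfl

theorem bil_comm (x y : Vec F m) : bil m F x y = bil m F y x := by
  simp only [bil_apply]
  congr 1; ext i; ring

theorem quad_add (x y : Vec F m) :
    Cfsg.quadFormPlus m F (x + y) =
      Cfsg.quadFormPlus m F x + Cfsg.quadFormPlus m F y + bil m F x y := by
  simp only [Cfsg.quadFormPlus, bil_apply, Pi.add_apply, ← sum_add_distrib]
  congr 1; ext i; ring

theorem quad_smul (c : F) (x : Vec F m) :
    Cfsg.quadFormPlus m F (c • x) = c * c * Cfsg.quadFormPlus m F x := by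
  simp only [Cfsg.quadFormPlus, Pi.smul_apply, smul_eq_mul, mul_sum]
  congr 1; ext i; ring

theorem quad_zero : Cfsg.quadFormPlus m F (0 : Vec F m) = 0 := by simp [Cfsg.quadFormPlus]

theorem exists_bil_one {x : Vec F m} (hx : x ≠ 0) : ∃ y, bil m F x y ≠ 0 := by
  obtain ⟨i, hi⟩ := Function.ne_iff.1 hx
  rcases i with i | i
  · refine ⟨Pi.single (.inr i) 1, ?_⟩
    simpa [bil_apply, Pi.single_apply, sum_add_distrib] using hi
  · refine ⟨Pi.single (.inl i) 1, ?_⟩
    simpa [bil_apply, Pi.single_apply, sum_add_distrib] using hi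

theorem bil_nondeg : (bil m F).Nondegenerate := by
  refine ⟨fun x hx => ?_, fun x hx => ?_⟩ <;>
  · by_contra hne
    obtain ⟨y, hy⟩ := exists_bil_one hne
    first
    | exact hy (hx y)
    | exact hy ((bil_comm x y).trans (hx y))

theorem finrank_vec : Module.finrank F (Vec F m) = 2 * m := by
  simp [two_mul]

/-- totally singular -/
def Sing (W : Submodule F (Vec F m)) : Prop := ∀ w ∈ W, Cfsg.quadFormPlus m F w = 0

/-- orthogonal complement -/
def perp (W : Submodule F (Vec F m)) : Submodule F (Vec F m) := (bil m F).orthogonal W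

theorem mem_perp {W : Submodule F (Vec F m)} {x : Vec F m} :
    x ∈ perp W ↔ ∀ w ∈ W, bil m F w x = 0 :=
  LinearMap.BilinForm.mem_orthogonal_iff

theorem finrank_perp (W : Submodule F (Vec F m)) :
    Module.finrank F (perp W) = 2 * m - Module.finrank F W := by
  rw [perp, LinearMap.BilinForm.finrank_orthogonal bil_nondeg, finrank_vec]

theorem le_perp {W : Submodule F (Vec F m)} (hW : Sing W) : W ≤ perp W := by
  intro x hx
  rw [mem_perp]
  intro w hw
  have h := quad_add w x
  rw [hW _ (add_mem hw hx), hW _ hw, hW _ hx] at h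
  simpa using h.symm

variable [Fintype F] (hF : Fintype.card F = 2)

include hF

theorem eq_zero_or_one (a : F) : a = 0 ∨ a = 1 := by
  classical
  by_contra h
  rw [not_or] at h
  have hc : ({0, 1, a} : Finset F).card = 3 := by
    simp [Ne.symm h.1, Ne.symm h.2]
  have := Finset.card_le_univ ({0, 1, a} : Finset F)
  omega

theorem one_add_one : (1 : F) + 1 = 0 :=
  (eq_zero_or_one hF _).resolve_right fun h => one_ne_zero (add_eq_left.1 h)

theorem add_self (a : F) : a + a = 0 := by
  rw [← two_mul, show (2 : F) = 1 + 1 by norm_num, one_add_one hF, zero_mul]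

theorem vec_add_self (x : Vec F m) : x + x = 0 := funext fun i => add_self hF (x i)

theorem mul_self (a : F) : a * a = a := by
  rcases eq_zero_or_one hF a with rfl | rfl <;> simp

variable [DecidableEq F]

omit hF in
/-- sign of an element -/
def sgn (a : F) : ℤ := if a = 0 then 1 else -1

theorem sgn_add (a b : F) : sgn (a + b) = sgn a * sgn b := by
  rcases eq_zero_or_one hF a with rfl | rfl <;> rcases eq_zero_or_one hF b with rfl | rfl <;>
    simp [sgn, one_add_one hF]

theorem sgn_sum {ι : Type*} (s : Finset ι) (f : ι → F) : sgn (∑ i ∈ s, f i) = ∏ i ∈ s, sgn (f i) := by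
  classical
  induction s using Finset.induction_on with
  | empty => simp [sgn]
  | insert a s ha ih => rw [sum_insert ha, prod_insert ha, sgn_add hF, ih]

theorem sum_univ_sgn : ∑ x : Vec F m, sgn (Cfsg.quadFormPlus m F x) = 2 ^ m := by
  classical
  let e : (Fin m → F × F) ≃ Vec F m :=
    { toFun := fun f => Sum.elim (fun i => (f i).1) (fun i => (f i).2)
      invFun := fun x i => (x (.inl i), x (.inr i))
      left_inv := fun f => rfl
      right_inv := fun x => funext fun i => by cases i <;> rfl }
  rw [← e.sum_comp]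
  have h1 : ∀ f : Fin m → F × F, sgn (Cfsg.quadFormPlus m F (e f)) =
      ∏ i, sgn ((f i).1 * (f i).2) := fun f => sgn_sum hF univ _
  simp only [h1]
  rw [← Fintype.prod_sum (fun (_ : Fin m) (p : F × F) => sgn (p.1 * p.2))]
  have h2 : ∑ p : F × F, sgn (p.1 * p.2) = 2 := by
    have hu : (univ : Finset F) = {0, 1} := by
      ext a
      simpa using eq_zero_or_one hF a
    rw [Fintype.sum_prod_type, hu]
    simp [sgn]
  simp [h2]

theorem sum_bil_sgn (W : Submodule F (Vec F m)) [DecidablePred (· ∈ W)] (x : Vec F m) :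
    ∑ w ∈ univ.filter (· ∈ W), sgn (bil m F x w) =
      if ∀ w ∈ W, bil m F x w = 0 then ((univ.filter (· ∈ W)).card : ℤ) else 0 := by
  classical
  split_ifs with h
  · rw [sum_congr rfl (g := fun _ => (1 : ℤ))]
    · simp
    · intro w hw
      simp [sgn, h w (mem_filter.1 hw).2]
  · push Not at h
    obtain ⟨w0, hw0, hne⟩ := h
    have hS : ∑ w ∈ univ.filter (· ∈ W), sgn (bil m F x w) =
        ∑ w ∈ univ.filter (· ∈ W), -sgn (bil m F x w) := by
      refine sum_bij' (fun w _ => w + w0) (fun w _ => w + w0)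
        (fun w hw => mem_filter.2 ⟨mem_univ _, add_mem (mem_filter.1 hw).2 hw0⟩)
        (fun w hw => mem_filter.2 ⟨mem_univ _, add_mem (mem_filter.1 hw).2 hw0⟩)
        (fun w _ => by rw [add_assoc, vec_add_self hF, add_zero])
        (fun w _ => by rw [add_assoc, vec_add_self hF, add_zero])
        (fun w _ => ?_)
      rw [map_add, sgn_add hF]
      have : sgn (bil m F x w0) = -1 := by simp [sgn, hne]
      rw [this]
      ring
    rw [sum_neg_distrib] at hS
    omega

theorem sum_perp_sgn {W : Submodule F (Vec F m)} [DecidablePred (· ∈ W)]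
    [DecidablePred (· ∈ perp W)] (hW : Sing W) :
    ∑ x ∈ univ.filter (· ∈ perp W), sgn (Cfsg.quadFormPlus m F x) = 2 ^ m := by
  classical
  set P := univ.filter (· ∈ W) with hP
  have hpos : (P.card : ℤ) ≠ 0 := by
    have : (0 : Vec F m) ∈ P := mem_filter.2 ⟨mem_univ _, zero_mem W⟩
    exact_mod_cast (card_pos.2 ⟨_, this⟩).ne'
  have h1 : ∀ w ∈ P, ∑ x : Vec F m, sgn (Cfsg.quadFormPlus m F x) =
      ∑ x : Vec F m, sgn (Cfsg.quadFormPlus m F x) * sgn (bil m F x w) := by
    intro w hw
    refine (Equiv.sum_comp (Equiv.addRight w)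
      (fun x => sgn (Cfsg.quadFormPlus m F x))).symm.trans (Finset.sum_congr rfl fun x _ => ?_)
    simp only [Equiv.coe_addRight]
    rw [quad_add, hW w (mem_filter.1 hw).2, add_zero, sgn_add hF]
  have h2 := sum_congr rfl h1
  rw [sum_const, sum_univ_sgn hF, sum_comm] at h2
  simp only [← mul_sum, hP, sum_bil_sgn hF] at h2
  rw [sum_filter]
  refine mul_left_cancel₀ hpos ?_
  rw [mul_sum]
  rw [← hP, nsmul_eq_mul] at h2
  refine Eq.trans ?_ h2.symm
  refine Finset.sum_congr rfl fun x _ => ?_
  have e : (∀ w ∈ W, bil m F x w = 0) ↔ x ∈ perp W := by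
    rw [mem_perp]; simp only [bil_comm x]
  simp only [e]
  split_ifs <;> ring

omit [DecidableEq F] in
theorem card_filter_mem (W : Submodule F (Vec F m)) [DecidablePred (· ∈ W)] :
    (univ.filter (· ∈ W)).card = 2 ^ Module.finrank F W := by
  rw [← Fintype.card_subtype, ← Nat.card_eq_fintype_card,
    Module.natCard_eq_pow_finrank (K := F) (V := W), Nat.card_eq_fintype_card, hF]

/-- singular vectors of the complement outside the subspace -/
theorem card_singular {W : Submodule F (Vec F m)} [DecidablePred (· ∈ W)]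
    [DecidablePred (· ∈ perp W)] (hW : Sing W) {j k : ℕ} (hj : Module.finrank F W = j)
    (hk : j + k = m) :
    2 * ((univ.filter fun x => x ∈ perp W ∧ Cfsg.quadFormPlus m F x = 0 ∧ x ∉ W).card + 2 ^ j) =
      2 ^ j * (4 ^ k + 2 ^ k) := by
  classical
  have hsum := sum_perp_sgn hF hW
  set S := univ.filter (· ∈ perp W) with hS
  set Z := S.filter fun x => Cfsg.quadFormPlus m F x = 0 with hZ
  have hs : ∑ x ∈ S, sgn (Cfsg.quadFormPlus m F x) = 2 * (Z.card : ℤ) - S.card := by
    have e1 : ∀ x : Vec F m, sgn (Cfsg.quadFormPlus m F x) =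
        2 * (if Cfsg.quadFormPlus m F x = 0 then (1 : ℤ) else 0) - 1 := fun x => by
      unfold sgn; split_ifs <;> norm_num
    simp only [e1, sum_sub_distrib, ← mul_sum, sum_boole, sum_const, nsmul_eq_mul, mul_one, hZ]
  have hScard : S.card = 2 ^ j * 4 ^ k := by
    rw [hS, card_filter_mem hF, finrank_perp, hj, show (4 : ℕ) = 2 ^ 2 by norm_num, ← pow_mul,
      ← pow_add]
    congr 1; omega
  have hZcard : Z.card = (univ.filter fun x => x ∈ perp W ∧ Cfsg.quadFormPlus m F x = 0 ∧ x ∉ W).card
      + 2 ^ j := by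
    have hsub : univ.filter (· ∈ W) ⊆ Z := fun x hx =>
      mem_filter.2 ⟨mem_filter.2 ⟨mem_univ _, le_perp hW (mem_filter.1 hx).2⟩,
        hW x (mem_filter.1 hx).2⟩
    rw [← hj, ← card_filter_mem hF W, ← card_sdiff_add_card_eq_card hsub]
    congr 2
    ext x
    simp [hZ, hS, and_assoc]
  rw [hs] at hsum
  rw [← hZcard]
  have : (2 * Z.card : ℤ) = (2 ^ j * (4 ^ k + 2 ^ k) : ℕ) := by
    push_cast
    rw [mul_add, ← pow_add, hk]
    rw [hScard] at hsum
    push_cast at hsum
    linarith
  exact_mod_cast this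

end Cfsg.Agent.OPlusTwo
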