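import Mathlib
import Cfsg.Agent.OPlusTwo.Form

/-!
Two Sylow 2-subgroups of the orthogonal group of `∑ xᵢ yᵢ` over the field with two elements
never meet trivially: each contains the pointwise stabiliser of a totally singular subspace of
dimension `m - 1`.
-/

set_option autoImplicit false

namespace Cfsg.Agent.OPlusTwo

open Matrix Finset
open scoped Pointwise

variable {F : Type*} [Field F] [Fintype F] {m : ℕ}

/-- the group -/
abbrev Grp (F : Type*) [Field F] (m : ℕ) : Type _ :=
  Cfsg.isometryGroup F (Cfsg.quadFormPlus m F)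

omit [Fintype F]

/-- the linear action -/
def lin (g : Grp F m) : Vec F m →ₗ[F] Vec F m :=
  (((g : GL (Fin m ⊕ Fin m) F) : Matrix (Fin m ⊕ Fin m) (Fin m ⊕ Fin m) F)).mulVecLin

theorem lin_one : lin (1 : Grp F m) = LinearMap.id := by
  simp [lin]

theorem lin_mul (a b : Grp F m) : lin (a * b) = (lin a).comp (lin b) := by
  simp [lin, Matrix.mulVecLin_mul]

theorem lin_mul_apply (a b : Grp F m) (x : Vec F m) : lin (a * b) x = lin a (lin b x) := by
  rw [lin_mul]; rfl

theorem lin_inv_apply (g : Grp F m) (x : Vec F m) : lin g⁻¹ (lin g x) = x := by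
  rw [← lin_mul_apply, inv_mul_cancel, lin_one]; rfl

theorem lin_apply_inv (g : Grp F m) (x : Vec F m) : lin g (lin g⁻¹ x) = x := by
  rw [← lin_mul_apply, mul_inv_cancel, lin_one]; rfl

theorem lin_injective (g : Grp F m) : Function.Injective (lin g) := fun x y h => by
  rw [← lin_inv_apply g x, h, lin_inv_apply]

theorem eq_one_of_lin (g : Grp F m) (h : ∀ x, lin g x = x) : g = 1 := by
  refine Subtype.ext (Units.ext (Matrix.toLin'.injective (LinearMap.ext fun x => ?_)))
  simpa [lin] using h x

theorem quad_lin (g : Grp F m) (x : Vec F m) :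
    Cfsg.quadFormPlus m F (lin g x) = Cfsg.quadFormPlus m F x := g.2 x x

theorem bil_lin (g : Grp F m) (x y : Vec F m) : bil m F (lin g x) (lin g y) = bil m F x y := by
  have h := quad_lin g (x + y)
  rw [map_add, quad_add, quad_add, quad_lin, quad_lin] at h
  exact add_left_cancel h

/-- invariance of a subspace under a group of isometries -/
def Stable (H : Subgroup (Grp F m)) (W : Submodule F (Vec F m)) : Prop :=
  ∀ g ∈ H, ∀ w ∈ W, lin g w ∈ W

theorem stable_perp {H : Subgroup (Grp F m)} {W : Submodule F (Vec F m)} (hW : Stable H W)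
    {g : Grp F m} (hg : g ∈ H) {x : Vec F m} (hx : x ∈ perp W) : lin g x ∈ perp W := by
  rw [mem_perp]
  intro w hw
  rw [← lin_apply_inv g w, bil_lin]
  exact mem_perp.1 hx _ (hW _ (inv_mem hg) w hw)

/-- the elements fixing a subspace pointwise -/
def fixer (W : Submodule F (Vec F m)) : Subgroup (Grp F m) where
  carrier := {g | ∀ w ∈ W, lin g w = w}
  one_mem' w _ := by rw [lin_one]; rfl
  mul_mem' {a b} ha hb w hw := by rw [lin_mul_apply, hb w hw, ha w hw]
  inv_mem' {a} ha w hw := by
    conv_lhs => rw [← ha w hw]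
    rw [lin_inv_apply]

theorem mem_fixer {W : Submodule F (Vec F m)} {g : Grp F m} :
    g ∈ fixer W ↔ ∀ w ∈ W, lin g w = w := Iff.rfl

variable [Fintype F] (hF : Fintype.card F = 2)

include hF

/-- the span of a subspace and one more vector -/
theorem mem_sup_span {W : Submodule F (Vec F m)} {x y : Vec F m}
    (hy : y ∈ W ⊔ Submodule.span F {x}) : y ∈ W ∨ y - x ∈ W := by
  rw [Submodule.mem_sup] at hy
  obtain ⟨w, hw, z, hz, rfl⟩ := hy
  obtain ⟨c, rfl⟩ := Submodule.mem_span_singleton.1 hz
  rcases eq_zero_or_one hF c with rfl | rfl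
  · exact Or.inl (by simpa using hw)
  · exact Or.inr (by simpa using hw)

open Classical in
/-- the singular extensions by one vector, their number, and their behaviour -/
theorem exts {W : Submodule F (Vec F m)} (hW : Sing W) {j k : ℕ}
    (hj : Module.finrank F W = j) (hk : j + k = m) :
    ∃ 𝒲 : Finset (Submodule F (Vec F m)),
      2 * (𝒲.card + 1) = 4 ^ k + 2 ^ k ∧
      (∀ W', W' ∈ 𝒲 ↔ ∃ x, x ∈ perp W ∧ Cfsg.quadFormPlus m F x = 0 ∧ x ∉ W ∧
        W' = W ⊔ Submodule.span F {x}) := by
  set T := univ.filter fun x => x ∈ perp W ∧ Cfsg.quadFormPlus m F x = 0 ∧ x ∉ W with hT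
  refine ⟨T.image fun x => W ⊔ Submodule.span F {x}, ?_, fun W' => ?_⟩
  · have hcard : T.card = (T.image fun x => W ⊔ Submodule.span F {x}).card * 2 ^ j := by
      rw [card_eq_sum_card_image (fun x => W ⊔ Submodule.span F {x}) T,
        sum_const_nat (m := 2 ^ j)]
      intro W' hW'
      obtain ⟨x0, hx0, rfl⟩ := mem_image.1 hW'
      obtain ⟨-, hx0p, hx0q, hx0W⟩ := mem_filter.1 hx0
      have : (T.filter fun x => W ⊔ Submodule.span F {x} = W ⊔ Submodule.span F {x0}) =
          (univ.filter (· ∈ W)).image (x0 + ·) := by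
        ext x
        simp only [mem_filter, mem_image, mem_univ, true_and, hT]
        constructor
        · rintro ⟨⟨-, -, hxW⟩, he⟩
          have hx : x ∈ W ⊔ Submodule.span F {x0} :=
            he ▸ Submodule.mem_sup_right (Submodule.mem_span_singleton_self x)
          rcases mem_sup_span hF hx with h | h
          · exact absurd h hxW
          · exact ⟨x - x0, h, by abel⟩
        · rintro ⟨w, hw, rfl⟩
          refine ⟨⟨add_mem hx0p (le_perp hW hw), ?_, fun h => hx0W ?_⟩, ?_⟩
          · rw [quad_add, hx0q, hW w hw, bil_comm, mem_perp.1 hx0p w hw]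
            simp
          · simpa using sub_mem h hw
          · refine le_antisymm (sup_le le_sup_left ?_) (sup_le le_sup_left ?_)
            · rw [Submodule.span_singleton_le_iff_mem]
              exact add_mem (Submodule.mem_sup_right (Submodule.mem_span_singleton_self x0))
                (Submodule.mem_sup_left hw)
            · rw [Submodule.span_singleton_le_iff_mem]
              have : x0 + w + -w ∈ W ⊔ Submodule.span F {x0 + w} :=
                add_mem (Submodule.mem_sup_right (Submodule.mem_span_singleton_self _))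
                  (Submodule.mem_sup_left (neg_mem hw))
              simpa using this
      rw [this, card_image_of_injective _ (add_right_injective x0), card_filter_mem hF, hj]
    have h := card_singular hF hW hj hk
    rw [← hT, hcard] at h
    have : 2 ^ j * (2 * ((T.image fun x => W ⊔ Submodule.span F {x}).card + 1)) =
        2 ^ j * (4 ^ k + 2 ^ k) := by rw [← h]; ring
    exact Nat.eq_of_mul_eq_mul_left (Nat.two_pow_pos j) this
  · simp only [mem_image, hT, mem_filter, mem_univ, true_and]
    constructor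
    · rintro ⟨x, ⟨h1, h2, h3⟩, rfl⟩
      exact ⟨x, h1, h2, h3, rfl⟩
    · rintro ⟨x, h1, h2, h3, rfl⟩
      exact ⟨x, ⟨h1, h2, h3⟩, rfl⟩

theorem finrank_ext {W : Submodule F (Vec F m)} {x : Vec F m} (hx : x ∉ W) :
    Module.finrank F (W ⊔ Submodule.span F {x} : Submodule F (Vec F m)) =
      Module.finrank F W + 1 := by
  have h := Submodule.finrank_sup_add_finrank_inf_eq W (Submodule.span F {x})
  have hne : x ≠ 0 := fun h0 => hx (h0 ▸ zero_mem W)
  have hinf : W ⊓ Submodule.span F {x} = ⊥ := by
    rw [eq_bot_iff]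
    rintro y ⟨hy1, hy2⟩
    obtain ⟨c, rfl⟩ := Submodule.mem_span_singleton.1 hy2
    rcases eq_zero_or_one hF c with rfl | rfl
    · simp
    · exact absurd (by simpa using hy1) hx
  rw [hinf, finrank_bot, finrank_span_singleton hne] at h
  omega

theorem map_ext {W : Submodule F (Vec F m)} {g : Grp F m} (hg : ∀ w ∈ W, lin g w ∈ W)
    (x : Vec F m) :
    (W ⊔ Submodule.span F {x}).map (lin g) = W ⊔ Submodule.span F {lin g x} := by
  classical
  rw [Submodule.map_sup, Submodule.map_span, Set.image_singleton]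
  congr 1
  refine Submodule.eq_of_le_of_finrank_eq ?_
    (Submodule.equivMapOfInjective (lin g) (lin_injective g) W).finrank_eq.symm
  rintro _ ⟨w, hw, rfl⟩
  exact hg w hw

theorem exists_stable_ext {H : Subgroup (Grp F m)} (hH : IsPGroup 2 H)
    {W : Submodule F (Vec F m)} (hW : Sing W) (hst : Stable H W) {j : ℕ}
    (hj : Module.finrank F W = j) (hjm : j + 2 ≤ m) :
    ∃ W' : Submodule F (Vec F m), Sing W' ∧ Stable H W' ∧ Module.finrank F W' = j + 1 := by
  classical
  obtain ⟨k, hk⟩ : ∃ k, j + (k + 2) = m := ⟨m - j - 2, by omega⟩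
  obtain ⟨𝒲, hcard, hmem⟩ := exts hF hW hj hk
  have hmap : ∀ g : H, ∀ W' ∈ 𝒲, W'.map (lin (g : Grp F m)) ∈ 𝒲 := by
    intro g W' hW'
    obtain ⟨x, hx1, hx2, hx3, rfl⟩ := (hmem W').1 hW'
    refine (hmem _).2 ⟨lin (g : Grp F m) x, stable_perp hst g.2 hx1, by rw [quad_lin, hx2],
      fun h => hx3 ?_, map_ext hF (hst _ g.2) x⟩
    simpa [lin_inv_apply] using hst _ (inv_mem g.2) _ h
  letI : MulAction H {W' // W' ∈ 𝒲} :=
    { smul := fun g W' => ⟨W'.1.map (lin (g : Grp F m)), hmap g W'.1 W'.2⟩
      one_smul := fun W' => Subtype.ext (by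
        show W'.1.map (lin ((1 : H) : Grp F m)) = W'.1
        rw [OneMemClass.coe_one, lin_one, Submodule.map_id])
      mul_smul := fun a b W' => Subtype.ext (by
        show W'.1.map (lin ((a * b : H) : Grp F m)) = (W'.1.map (lin (b : Grp F m))).map (lin (a : Grp F m))
        rw [Subgroup.coe_mul, lin_mul, Submodule.map_comp]) }
  haveI : Fact (Nat.Prime 2) := ⟨Nat.prime_two⟩
  obtain ⟨⟨W', hW'⟩, hfix⟩ := hH.nonempty_fixed_point_of_prime_not_dvd_card {W' // W' ∈ 𝒲} (by
    rw [Nat.card_eq_fintype_card, Fintype.card_coe]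
    intro hd
    obtain ⟨c, hc⟩ := hd
    rw [hc, show (4 : ℕ) ^ (k + 2) + 2 ^ (k + 2) = 4 * (4 ^ (k + 1) + 2 ^ k) by ring] at hcard
    omega)
  obtain ⟨x, hx1, hx2, hx3, rfl⟩ := (hmem W').1 hW'
  refine ⟨_, fun y hy => ?_, fun g hg y hy => ?_, by rw [finrank_ext hF hx3, hj]⟩
  · rcases mem_sup_span hF hy with h | h
    · exact hW y h
    · have e : y = x + (y - x) := by abel
      rw [e, quad_add, hx2, hW _ h, bil_comm, mem_perp.1 hx1 _ h]
      simp
  · have h1 : (W ⊔ Submodule.span F {x}).map (lin g) = W ⊔ Submodule.span F {x} :=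
      congrArg Subtype.val (hfix ⟨g, hg⟩)
    rw [← h1]
    exact Submodule.mem_map_of_mem hy

theorem exists_stable {H : Subgroup (Grp F m)} (hH : IsPGroup 2 H) :
    ∀ j, j + 1 ≤ m → ∃ W : Submodule F (Vec F m), Sing W ∧ Stable H W ∧ Module.finrank F W = j := by
  intro j
  induction j with
  | zero =>
    intro _
    refine ⟨⊥, fun w hw => ?_, fun g _ w hw => ?_, finrank_bot F _⟩
    · rw [(Submodule.mem_bot F).1 hw, quad_zero]
    · rw [(Submodule.mem_bot F).1 hw, map_zero]; exact zero_mem _
  | succ j ih =>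
    intro hjm
    obtain ⟨W, hW, hst, hj⟩ := ih (by omega)
    exact exists_stable_ext hF hH hW hst hj (by omega)

theorem fixer_pow {W : Submodule F (Vec F m)} (hW : Sing W) {j : ℕ}
    (hj : Module.finrank F W = j) (hjm : j + 1 = m) {g : Grp F m} (hg : g ∈ fixer W) :
    g ^ 8 = 1 := by
  classical
  obtain ⟨𝒲, hcard, hmem⟩ := exts hF hW hj hjm
  have h2 : 𝒲.card = 2 := by norm_num at hcard; omega
  have hstab : ∀ h ∈ fixer W, ∀ w ∈ W, lin h w ∈ W := fun h hh w hw => by
    rw [mem_fixer.1 hh w hw]; exact hw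
  have hperp : ∀ h ∈ fixer W, ∀ x ∈ perp W, lin h x ∈ perp W := fun h hh x hx =>
    stable_perp (H := fixer W) hstab hh hx
  have hmap : ∀ W' ∈ 𝒲, W'.map (lin g) ∈ 𝒲 := by
    intro W' hW'
    obtain ⟨x, hx1, hx2, hx3, rfl⟩ := (hmem W').1 hW'
    refine (hmem _).2 ⟨lin g x, hperp g hg x hx1, by rw [quad_lin, hx2],
      fun h => hx3 ?_, map_ext hF (hstab g hg) x⟩
    simpa [lin_inv_apply] using hstab _ (inv_mem hg) _ h
  obtain ⟨A, B, hAB, hAB'⟩ := Finset.card_eq_two.1 h2
  have hinj : Function.Injective fun W' : Submodule F (Vec F m) => W'.map (lin g) :=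
    Submodule.map_injective_of_injective (lin_injective g)
  have hsq : ∀ W' ∈ 𝒲, (W'.map (lin g)).map (lin g) = W' := by
    have hA : A.map (lin g) = A ∨ A.map (lin g) = B := by
      have := hmap A (by simp [hAB']); simpa [hAB'] using this
    have hB : B.map (lin g) = A ∨ B.map (lin g) = B := by
      have := hmap B (by simp [hAB']); simpa [hAB'] using this
    intro W' hW'
    simp only [hAB', mem_insert, mem_singleton] at hW'
    rcases hA with hA | hA <;> rcases hB with hB | hB
    · exact absurd (hinj (hA.trans hB.symm)) hAB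
    · rcases hW' with rfl | rfl
      · rw [hA, hA]
      · rw [hB, hB]
    · rcases hW' with rfl | rfl
      · rw [hA, hB]
      · rw [hB, hA]
    · exact absurd (hinj (hA.trans hB.symm)) hAB
  set h := g ^ 2 with hh
  have hhW : h ∈ fixer W := pow_mem hg 2
  obtain ⟨a, ha1, ha2, ha3, rfl⟩ := (hmem A).1 (by simp [hAB'])
  obtain ⟨b, hb1, hb2, hb3, rfl⟩ := (hmem B).1 (by simp [hAB'])
  have hbA : b ∉ W ⊔ Submodule.span F {a} := by
    intro hb
    refine hAB (le_antisymm (sup_le le_sup_left ?_) (sup_le le_sup_left ?_))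
    · rw [Submodule.span_singleton_le_iff_mem]
      rcases mem_sup_span hF hb with h' | h'
      · exact absurd h' hb3
      · have e : a = b + -(b - a) := by abel
        rw [e]
        exact add_mem (Submodule.mem_sup_right (Submodule.mem_span_singleton_self b))
          (Submodule.mem_sup_left (neg_mem h'))
    · rw [Submodule.span_singleton_le_iff_mem]
      exact hb
  have hgen : perp W = W ⊔ Submodule.span F {a} ⊔ Submodule.span F {b} := by
    refine (Submodule.eq_of_le_of_finrank_le (sup_le (sup_le (le_perp hW) ?_) ?_) ?_).symm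
    · rwa [Submodule.span_singleton_le_iff_mem]
    · rwa [Submodule.span_singleton_le_iff_mem]
    · rw [finrank_ext hF hbA, finrank_ext hF ha3, finrank_perp, hj]
      omega
  have hdiff : ∀ x, x ∈ perp W → Cfsg.quadFormPlus m F x = 0 → x ∉ W → lin h x + x ∈ W := by
    intro x hx1 hx2 hx3
    have hm := hsq _ ((hmem _).2 ⟨x, hx1, hx2, hx3, rfl⟩)
    rw [← Submodule.map_comp, ← lin_mul, ← pow_two, ← hh] at hm
    have : lin h x ∈ W ⊔ Submodule.span F {x} := by
      rw [← hm]
      exact Submodule.mem_map_of_mem (Submodule.mem_sup_right (Submodule.mem_span_singleton_self x))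
    rcases mem_sup_span hF this with h' | h'
    · exfalso
      refine hx3 ?_
      simpa [lin_inv_apply] using hstab _ (inv_mem hhW) _ h'
    · have e : lin h x + x = lin h x - x := by
        rw [sub_eq_add_neg, neg_eq_of_add_eq_zero_left (vec_add_self hF x)]
      rwa [e]
  have hD : ∀ x ∈ perp W, lin h x + x ∈ W := by
    intro x hx
    rw [hgen] at hx
    obtain ⟨y, hy, z, hz, rfl⟩ := Submodule.mem_sup.1 hx
    obtain ⟨w, hw, u, hu, rfl⟩ := Submodule.mem_sup.1 hy
    obtain ⟨c, rfl⟩ := Submodule.mem_span_singleton.1 hu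
    obtain ⟨d, rfl⟩ := Submodule.mem_span_singleton.1 hz
    have e : lin h (w + c • a + d • b) + (w + c • a + d • b) =
        (lin h w + w) + c • (lin h a + a) + d • (lin h b + b) := by
      simp only [map_add, map_smul, smul_add]; abel
    rw [e, mem_fixer.1 hhW w hw]
    exact add_mem (add_mem (add_mem hw hw) (W.smul_mem c (hdiff a ha1 ha2 ha3)))
      (W.smul_mem d (hdiff b hb1 hb2 hb3))
  have hV : ∀ x, lin h x + x ∈ perp W := by
    intro x
    rw [mem_perp]
    intro w hw
    have h1 := bil_lin h w x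
    rw [mem_fixer.1 hhW w hw] at h1
    rw [map_add, h1, add_self hF]
  refine eq_one_of_lin _ fun x => ?_
  set D : Vec F m → Vec F m := fun y => lin h y + y with hDdef
  have hDD : ∀ y, D (D y) = lin (h ^ 2) y + y := fun y => by
    simp only [hDdef, map_add, pow_two, lin_mul_apply]
    rw [add_assoc, ← add_assoc (lin h y) (lin h y) y, vec_add_self hF, zero_add]
  have h4 : D (D (D (D x))) = 0 := by
    have h3 : D (D (D x)) = 0 := by
      have := mem_fixer.1 hhW _ (hD _ (hV x))
      simp only [hDdef] at this ⊢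
      rw [this, vec_add_self hF]
    rw [h3]
    simp [hDdef]
  rw [hDD, hDD] at h4
  simp only [map_add] at h4
  rw [add_assoc, ← add_assoc (lin (h ^ 2) x) (lin (h ^ 2) x) x, vec_add_self hF, zero_add,
    ← lin_mul_apply, ← pow_add, add_eq_zero_iff_eq_neg,
    neg_eq_of_add_eq_zero_left (vec_add_self hF x), hh, ← pow_mul] at h4
  exact h4

theorem sylow_contains_fixer (hm : 1 ≤ m) (H : Sylow 2 (Grp F m)) :
    ∃ W : Submodule F (Vec F m), Sing W ∧ Module.finrank F W + 1 = m ∧
      fixer W ≤ (H : Subgroup (Grp F m)) := by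
  classical
  haveI : Fact (Nat.Prime 2) := ⟨Nat.prime_two⟩
  obtain ⟨W, hW, hst, hj⟩ := exists_stable hF H.2 (m - 1) (by omega)
  refine ⟨W, hW, by omega, ?_⟩
  have hK : IsPGroup 2 (fixer W) := fun g =>
    ⟨3, Subtype.ext (fixer_pow hF hW hj (by omega) g.2)⟩
  have hn : (H : Subgroup (Grp F m)) ≤ Subgroup.normalizer (fixer W : Set (Grp F m)) := by
    intro g hg
    rw [Subgroup.mem_normalizer_iff]
    intro k
    constructor
    · intro hk
      refine mem_fixer.2 fun w hw => ?_
      rw [lin_mul_apply, lin_mul_apply, mem_fixer.1 hk _ (hst _ (inv_mem hg) w hw), lin_apply_inv]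
    · intro hk
      refine mem_fixer.2 fun w hw => lin_injective g ?_
      have := mem_fixer.1 hk _ (hst g hg w hw)
      rwa [lin_mul_apply, lin_mul_apply, lin_inv_apply] at this
  have := H.3 (IsPGroup.to_sup_of_normal_right' H.2 hK hn) le_sup_left
  rw [← this]
  exact le_sup_right

/-- an isometry given by an involutive linear map -/
theorem exists_of_map (L : Vec F m →ₗ[F] Vec F m) (hL : ∀ x, L (L x) = x)
    (hQ : ∀ x, Cfsg.quadFormPlus m F (L x) = Cfsg.quadFormPlus m F x) :
    ∃ g : Grp F m, ∀ x, lin g x = L x := by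
  classical
  have hM : LinearMap.toMatrix' L * LinearMap.toMatrix' L = 1 := by
    rw [← LinearMap.toMatrix'_comp, show L.comp L = LinearMap.id from LinearMap.ext hL,
      LinearMap.toMatrix'_id]
  refine ⟨⟨⟨LinearMap.toMatrix' L, LinearMap.toMatrix' L, hM, hM⟩, fun u v => ?_⟩, fun x => ?_⟩
  · show Cfsg.quadFormPlus m F (LinearMap.toMatrix' L *ᵥ u) = _
    rw [LinearMap.toMatrix'_mulVec, hQ]
  · simp [lin, LinearMap.toMatrix'_mulVec]

theorem exists_common {W W' : Submodule F (Vec F m)} (hW : Module.finrank F W + 1 = m)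
    (hW' : Module.finrank F W' + 1 = m) :
    ∃ g : Grp F m, g ≠ 1 ∧ g ∈ fixer W ∧ g ∈ fixer W' := by
  classical
  set E := perp W ⊓ perp W' with hE
  have hEr : 2 ≤ Module.finrank F E := by
    have h1 := Submodule.finrank_sup_add_finrank_inf_eq (perp W) (perp W')
    have h2 := Submodule.finrank_le (perp W ⊔ perp W')
    rw [finrank_perp, finrank_perp, ← hE] at h1
    rw [finrank_vec] at h2
    omega
  have hEB : ∀ v ∈ E, ∀ w, w ∈ W ∨ w ∈ W' → bil m F w v = 0 := by
    intro v hv w hw
    rcases hw with hw | hw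
    · exact mem_perp.1 hv.1 w hw
    · exact mem_perp.1 hv.2 w hw
  by_cases hall : ∀ v ∈ E, Cfsg.quadFormPlus m F v = 0
  · obtain ⟨u, hu, hu0⟩ : ∃ u ∈ E, u ≠ 0 := by
      by_contra hc
      push Not at hc
      have : E = ⊥ := (Submodule.eq_bot_iff _).2 hc
      rw [this, finrank_bot] at hEr
      omega
    obtain ⟨v, hv, hvu⟩ : ∃ v ∈ E, v ∉ Submodule.span F {u} := by
      by_contra hc
      push Not at hc
      have := Submodule.finrank_mono (show E ≤ Submodule.span F {u} from hc)
      rw [finrank_span_singleton hu0] at this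
      omega
    have huv : bil m F u v = 0 := by
      have := quad_add u v
      rw [hall _ (add_mem hu hv), hall u hu, hall v hv] at this
      simpa using this.symm
    have hvu' : bil m F v u = 0 := by rw [bil_comm, huv]
    have huu : bil m F u u = 0 := by
      have := quad_add u u
      rw [vec_add_self hF, quad_zero, hall u hu] at this
      simpa using this.symm
    have hvv : bil m F v v = 0 := by
      have := quad_add v v
      rw [vec_add_self hF, quad_zero, hall v hv] at this
      simpa using this.symm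
    let L : Vec F m →ₗ[F] Vec F m :=
      LinearMap.id + ((bil m F).flip u).smulRight v + ((bil m F).flip v).smulRight u
    have hL : ∀ x, L x = x + bil m F x u • v + bil m F x v • u := fun x => rfl
    obtain ⟨g, hg⟩ := exists_of_map hF L (fun x => by
      rw [hL (L x), hL x]
      simp only [map_add, map_smul, LinearMap.add_apply, LinearMap.smul_apply, smul_eq_mul, huu,
        hvv, huv, hvu', mul_zero, add_zero]
      rw [show x + bil m F x u • v + bil m F x v • u + bil m F x u • v + bil m F x v • u =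
        x + (bil m F x u • v + bil m F x u • v) + (bil m F x v • u + bil m F x v • u) by abel,
        vec_add_self hF, vec_add_self hF, add_zero, add_zero]) (fun x => by
      rw [hL, quad_add, quad_add, quad_smul, quad_smul, hall u hu, hall v hv]
      simp only [map_add, map_smul, LinearMap.add_apply, LinearMap.smul_apply, smul_eq_mul, hvu']
      linear_combination (bil m F x u * bil m F x v) * one_add_one hF)
    refine ⟨g, fun h1 => ?_, mem_fixer.2 fun w hw => ?_, mem_fixer.2 fun w hw => ?_⟩
    · obtain ⟨y, hy⟩ := exists_bil_one hu0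
      rw [bil_comm] at hy
      have h2 := hg y
      rw [h1, lin_one, LinearMap.id_apply, hL, (eq_zero_or_one hF _).resolve_left hy, one_smul,
        add_assoc, left_eq_add] at h2
      refine hvu (Submodule.mem_span_singleton.2 ⟨-(bil m F y v), ?_⟩)
      rw [neg_smul]
      exact (eq_neg_of_add_eq_zero_left h2).symm
    · rw [hg, hL, hEB u hu w (Or.inl hw), hEB v hv w (Or.inl hw)]
      simp
    · rw [hg, hL, hEB u hu w (Or.inr hw), hEB v hv w (Or.inr hw)]
      simp
  · push Not at hall
    obtain ⟨v, hv, hvQ⟩ := hall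
    have hvQ1 : Cfsg.quadFormPlus m F v = 1 := (eq_zero_or_one hF _).resolve_left hvQ
    have hv0 : v ≠ 0 := fun h => hvQ (by rw [h, quad_zero])
    have hvv : bil m F v v = 0 := by
      have := quad_add v v
      rw [vec_add_self hF, quad_zero, hvQ1, one_add_one hF, zero_add] at this
      exact this.symm
    let L : Vec F m →ₗ[F] Vec F m := LinearMap.id + ((bil m F).flip v).smulRight v
    have hL : ∀ x, L x = x + bil m F x v • v := fun x => rfl
    obtain ⟨g, hg⟩ := exists_of_map hF L (fun x => by
      rw [hL (L x), hL x]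
      simp only [map_add, map_smul, LinearMap.add_apply, LinearMap.smul_apply, smul_eq_mul, hvv,
        mul_zero, add_zero]
      rw [add_assoc, vec_add_self hF, add_zero]) (fun x => by
      rw [hL, quad_add, quad_smul, hvQ1, map_smul, smul_eq_mul]
      linear_combination (bil m F x v * bil m F x v) * one_add_one hF)
    refine ⟨g, fun h1 => ?_, mem_fixer.2 fun w hw => ?_, mem_fixer.2 fun w hw => ?_⟩
    · obtain ⟨y, hy⟩ := exists_bil_one hv0
      rw [bil_comm] at hy
      have h2 := hg y
      rw [h1, lin_one, LinearMap.id_apply, hL, left_eq_add, smul_eq_zero] at h2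
      exact h2.elim hy hv0
    · rw [hg, hL, hEB v hv w (Or.inl hw)]
      simp
    · rw [hg, hL, hEB v hv w (Or.inr hw)]
      simp

theorem inf_ne_bot (hm : 1 ≤ m) (H : Sylow 2 (Grp F m)) (x : Grp F m) :
    (H : Subgroup (Grp F m)) ⊓ MulAut.conj x • (H : Subgroup (Grp F m)) ≠ ⊥ := by
  intro hbot
  obtain ⟨W, -, hW, hWH⟩ := sylow_contains_fixer hF hm H
  obtain ⟨W', -, hW', hWH'⟩ := sylow_contains_fixer hF hm (x • H)
  obtain ⟨g, hg1, hg, hg'⟩ := exists_common hF hW hW'
  refine hg1 (Subgroup.mem_bot.1 (hbot ▸ Subgroup.mem_inf.2 ⟨hWH hg, ?_⟩))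
  exact hWH' hg'

end Cfsg.Agent.OPlusTwo
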